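import Mathlib

/-!
# The functionals attached to symmetric forms on a lattice
-/

set_option autoImplicit false

namespace Groth.Agent.H1Lattice

open Finset

variable {s : ℕ}

/-- The functionals of the statements. -/
def Hset (δ : ℕ) (g : ℤ) (d : Fin (s + 1) → ℤ) : Set ((Fin (s + 1) → ℤ) →+ ZMod δ) :=
  {φ | ∃ b : LinearMap.BilinForm ℤ (Fin (s + 1) → ℤ), b.IsSymm ∧
    ∀ x, φ x = ((b d x + (1 - g) * b x x : ℤ) : ZMod δ)}

/-- A lattice basis along `d`. -/
theorem exists_basis (d : Fin (s + 1) → ℤ) :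
    ∃ B : Module.Basis (Fin (s + 1)) ℤ (Fin (s + 1) → ℤ), d = (Finset.univ.gcd d) • B 0 := by
  classical
  obtain ⟨v, hv, hv1⟩ := Finset.extract_gcd d (Finset.univ_nonempty (α := Fin (s + 1)))
  obtain ⟨f, hf⟩ := Finset.gcd_eq_sum_mul Finset.univ v
  rw [hv1] at hf
  let c : (Fin (s + 1) → ℤ) →ₗ[ℤ] ℤ := Fintype.linearCombination ℤ f
  have hc : c v = 1 := by
    rw [hf]
    simp [c, Fintype.linearCombination_apply, mul_comm]
  let K := LinearMap.ker c
  let e : (ℤ × K) ≃ₗ[ℤ] (Fin (s + 1) → ℤ) :=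
    LinearEquiv.ofLinear ((LinearMap.toSpanSingleton ℤ _ v).coprod K.subtype)
      (c.prod ((LinearMap.id - (LinearMap.toSpanSingleton ℤ _ v) ∘ₗ c).codRestrict K fun x => by
        rw [LinearMap.mem_ker]; simp [hc, -zsmul_eq_mul]))
      (LinearMap.ext fun x => by
        simp only [LinearMap.comp_apply, LinearMap.prod_apply, Function.prod_apply, LinearMap.coprod_apply,
          LinearMap.id_apply, Submodule.subtype_apply]
        rw [LinearMap.codRestrict_apply]
        simp)
      (LinearMap.ext fun x => by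
        obtain ⟨a, k, hk⟩ := x
        have hk' : c k = 0 := hk
        refine Prod.ext ?_ (Subtype.ext ?_)
        · simp [hc, hk', -zsmul_eq_mul]
        · simp [hc, hk', -zsmul_eq_mul])
  have hrank : Module.finrank ℤ K = s := by
    have h := e.finrank_eq
    rw [Module.finrank_prod, Module.finrank_self, Module.finrank_fin_fun] at h
    omega
  let bK := Module.finBasisOfFinrankEq ℤ K hrank
  let B := ((Module.Basis.singleton Unit ℤ).prod bK).map e
  let σ : Unit ⊕ Fin s ≃ Fin (s + 1) :=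
    { toFun := Sum.elim (fun _ => 0) Fin.succ
      invFun := Fin.cons (Sum.inl ()) Sum.inr
      left_inv := by rintro (⟨⟩ | i) <;> simp
      right_inv := fun i => by cases i using Fin.cases <;> simp }
  refine ⟨B.reindex σ, ?_⟩
  have h0 : B.reindex σ 0 = v := by
    rw [Module.Basis.reindex_apply, show σ.symm 0 = Sum.inl () from rfl]
    simp [B, e]
  rw [h0]
  funext i
  simpa using hv i (Finset.mem_univ i)

variable (δ : ℕ) (g : ℤ) (d : Fin (s + 1) → ℤ)

/-- The weights. -/
def G : Fin (s + 1) → ℤ := Fin.cons (Finset.univ.gcd d + 1 - g) (fun _ => (Int.gcd (g - 1) (Finset.univ.gcd d) : ℤ))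

/-- Their span. -/
def S : AddSubgroup (Fin (s + 1) → ZMod δ) :=
  AddSubgroup.pi Set.univ fun k => AddSubgroup.zmultiples ((G g d k : ℤ) : ZMod δ)

theorem mem_S {c : Fin (s + 1) → ZMod δ} : c ∈ S δ g d ↔ ∀ k, ∃ t : ℤ, (t : ZMod δ) * (G g d k : ℤ) = c k := by
  simp [S, AddSubgroup.mem_pi, AddSubgroup.mem_zmultiples_iff, zsmul_eq_mul]

theorem exists_equiv (hδ : (δ : ℤ) ∣ 2 * (g - 1)) :
    ∃ E : ((Fin (s + 1) → ℤ) →+ ZMod δ) ≃+ (Fin (s + 1) → ZMod δ),
      (AddSubgroup.closure (Hset δ g d)).map E.toAddMonoidHom = S δ g d := by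
  classical
  obtain ⟨B, hB⟩ := exists_basis d
  set D := Finset.univ.gcd d
  let E : ((Fin (s + 1) → ℤ) →+ ZMod δ) ≃+ (Fin (s + 1) → ZMod δ) :=
    { toFun := fun φ k => φ (B k)
      invFun := fun c => (B.constr ℤ c).toAddMonoidHom
      left_inv := fun φ => by
        have : B.constr ℤ (fun k => φ (B k)) = φ.toIntLinearMap := B.ext fun k => by simp
        exact AddMonoidHom.ext fun x => LinearMap.congr_fun this x
      right_inv := fun c => funext fun k => B.constr_basis ℤ c k
      map_add' := fun _ _ => rfl }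
  refine ⟨E, ?_⟩
  have hk : ∀ (k : Fin (s + 1)), k ≠ 0 → G g d k = (Int.gcd (g - 1) D : ℤ) := fun k hk => by
    obtain ⟨j, rfl⟩ := Fin.exists_succ_eq.2 hk
    rfl
  have h2 : ∀ t : ℤ, ((2 * (1 - g) * t : ℤ) : ZMod δ) = 0 := fun t => by
    rw [ZMod.intCast_zmod_eq_zero_iff_dvd]
    exact Dvd.dvd.mul_right (by
      rw [show 2 * (1 - g) = -(2 * (g - 1)) by ring]
      exact hδ.neg_right) t
  have hsq : ∀ t : ℤ, (((1 - g) * (t * t) : ℤ) : ZMod δ) = (((1 - g) * t : ℤ) : ZMod δ) := fun t => by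
    obtain ⟨u, hu⟩ := Int.even_mul_succ_self (t - 1)
    rw [← sub_eq_zero, ← Int.cast_sub, show (1 - g) * (t * t) - (1 - g) * t = 2 * (1 - g) * u by
      linear_combination (1 - g) * hu]
    exact h2 u
  apply le_antisymm
  · rw [AddMonoidHom.map_closure, AddSubgroup.closure_le]
    rintro _ ⟨φ, ⟨b, -, hb⟩, rfl⟩
    rw [SetLike.mem_coe, mem_S]
    intro k
    have hv : φ (B k) = ((D * b (B 0) (B k) + (1 - g) * b (B k) (B k) : ℤ) : ZMod δ) := by
      rw [hb, show b d (B k) = D * b (B 0) (B k) by rw [hB]; simp [-zsmul_eq_mul]]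
    by_cases hk0 : k = 0
    · subst hk0
      refine ⟨b (B 0) (B 0), ?_⟩
      show _ = φ (B 0)
      rw [hv, show G g d 0 = D + 1 - g from rfl]
      push_cast
      ring
    · obtain ⟨p, hp⟩ : (Int.gcd (g - 1) D : ℤ) ∣ D * b (B 0) (B k) + (1 - g) * b (B k) (B k) :=
        dvd_add (Dvd.dvd.mul_right (Int.gcd_dvd_right _ _) _) (Dvd.dvd.mul_right (by
          rw [show (1 - g) = -(g - 1) by ring]
          exact (Int.gcd_dvd_left _ _).neg_right) _)
      refine ⟨p, ?_⟩
      show _ = φ (B k)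
      rw [hv, hk k hk0, hp]
      push_cast
      ring
  · -- the coordinate generators
    have hgen : ∀ (k l : Fin (s + 1)) (a : ℤ), (∃ b : LinearMap.BilinForm ℤ (Fin (s + 1) → ℤ), b.IsSymm ∧
        ∀ x, ((a * B.coord l x : ℤ) : ZMod δ) = ((b d x + (1 - g) * b x x : ℤ) : ZMod δ)) → k = l →
        Pi.single k (a : ZMod δ) ∈ (AddSubgroup.closure (Hset δ g d)).map E.toAddMonoidHom := by
      rintro k l a ⟨b, hb, hx⟩ rfl
      refine ⟨((Int.castAddHom (ZMod δ)).comp ((a • B.coord k).toAddMonoidHom)), AddSubgroup.subset_closure ⟨b, hb, fun x => ?_⟩, ?_⟩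
      · rw [← hx]; simp
      · funext j
        show ((a • B.coord k) (B j) : ZMod δ) = _
        rcases eq_or_ne j k with rfl | hne
        · simp
        · simp [Module.Basis.coord_apply, Finsupp.single_eq_of_ne hne.symm, Pi.single_eq_of_ne hne]
    have hd : ∀ k, B.coord k d = if k = 0 then D else 0 := fun k => by
      rw [hB, map_zsmul, Module.Basis.coord_apply, Module.Basis.repr_self, Finsupp.single_apply]
      by_cases h : k = 0
      · subst h; simp
      · rw [if_neg (Ne.symm h), if_neg h, smul_zero]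
    have hsingle : ∀ k, Pi.single k ((G g d k : ℤ) : ZMod δ) ∈ (AddSubgroup.closure (Hset δ g d)).map E.toAddMonoidHom := by
      intro k
      by_cases hk0 : k = 0
      · subst hk0
        refine hgen 0 0 _ ⟨LinearMap.mk₂ ℤ (fun x y => B.coord 0 x * B.coord 0 y)
          (by intros; simp [add_mul]) (by intros; simp [mul_assoc, -zsmul_eq_mul]) (by intros; simp [mul_add]) (by intros; simp [mul_left_comm, -zsmul_eq_mul]),
          ⟨fun x y => mul_comm _ _⟩, fun x => ?_⟩ rfl
        simp only [LinearMap.mk₂_apply, hd, ↓reduceIte]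
        rw [show G g d 0 = D + 1 - g from rfl, Int.cast_add, hsq, ← Int.cast_add]
        congr 1
        ring
      · rw [hk k hk0, Int.gcd_eq_gcd_ab, Int.cast_add, Pi.single_add]
        refine AddSubgroup.add_mem _ (hgen k k _ ⟨(-Int.gcdA (g - 1) D) • LinearMap.mk₂ ℤ (fun x y => B.coord k x * B.coord k y)
            (by intros; simp [add_mul]) (by intros; simp [mul_assoc, -zsmul_eq_mul]) (by intros; simp [mul_add]) (by intros; simp [mul_left_comm, -zsmul_eq_mul]),
            ⟨fun x y => by simp [mul_comm]⟩, fun x => ?_⟩ rfl)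
          (hgen k k _ ⟨(Int.gcdB (g - 1) D) • LinearMap.mk₂ ℤ (fun x y => B.coord 0 x * B.coord k y + B.coord k x * B.coord 0 y)
            (by intros; simp [-zsmul_eq_mul]; ring) (by intros; simp [-zsmul_eq_mul]; ring) (by intros; simp [-zsmul_eq_mul]; ring) (by intros; simp [-zsmul_eq_mul]; ring),
            ⟨fun x y => by simp only [LinearMap.smul_apply, LinearMap.mk₂_apply, smul_eq_mul, RingHom.id_apply]; ring⟩, fun x => ?_⟩ rfl)
        · simp only [LinearMap.smul_apply, LinearMap.mk₂_apply, hd, if_neg hk0, smul_eq_mul, zero_mul, mul_zero, zero_add]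
          rw [show (1 - g) * (-Int.gcdA (g - 1) D * (B.coord k x * B.coord k x)) =
            -Int.gcdA (g - 1) D * ((1 - g) * (B.coord k x * B.coord k x)) by ring, Int.cast_mul (-Int.gcdA (g - 1) D), hsq,
            ← Int.cast_mul]
          congr 1
          ring
        · simp only [LinearMap.smul_apply, LinearMap.mk₂_apply, hd, ↓reduceIte, if_neg hk0, smul_eq_mul, zero_mul, add_zero]
          rw [Int.cast_add, show (1 - g) * (Int.gcdB (g - 1) D * (B.coord 0 x * B.coord k x + B.coord k x * B.coord 0 x)) =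
            2 * (1 - g) * (Int.gcdB (g - 1) D * (B.coord 0 x * B.coord k x)) by ring, h2, add_zero]
          congr 1
          ring
    intro c hc
    rw [mem_S] at hc
    choose t ht using hc
    rw [show c = ∑ k, t k • Pi.single k ((G g d k : ℤ) : ZMod δ) by
      funext j
      rw [Finset.sum_apply, Finset.sum_eq_single j (fun k _ hne => by
        rw [Pi.smul_apply, Pi.single_eq_of_ne (Ne.symm hne), smul_zero]) (fun h => absurd (Finset.mem_univ j) h)]
      rw [Pi.smul_apply, Pi.single_eq_same, zsmul_eq_mul, ht]]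
    exact AddSubgroup.sum_mem _ fun k _ => AddSubgroup.zsmul_mem _ (hsingle k) _

/-- Splitting off the first coordinate. -/
def consAddEquiv (T : Fin (s + 1) → Type) [∀ k, AddCommGroup (T k)] :
    (∀ k, T k) ≃+ T 0 × (∀ j : Fin s, T j.succ) where
  toFun f := (f 0, fun j => f j.succ)
  invFun p := Fin.cons p.1 p.2
  left_inv f := by funext k; cases k using Fin.cases <;> simp
  right_inv p := by simp
  map_add' _ _ := rfl

theorem quotient_equiv (hδ : (δ : ℤ) ∣ 2 * (g - 1)) :
    Nonempty ((((Fin (s + 1) → ℤ) →+ ZMod δ) ⧸ AddSubgroup.closure (Hset δ g d)) ≃+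
      (ZMod (Int.gcd δ (Finset.univ.gcd d + 1 - g)) ×
        (Fin s → ZMod (Int.gcd δ (Int.gcd (g - 1) (Finset.univ.gcd d)))))) := by
  classical
  obtain ⟨E, hE⟩ := exists_equiv δ g d hδ
  have hn : ∀ k, Int.gcd δ (G g d k) ∣ δ := fun k => Int.natCast_dvd_natCast.1 (Int.gcd_dvd_left _ _)
  let T : Fin (s + 1) → Type := fun k => ZMod (Int.gcd δ (G g d k))
  let π : (Fin (s + 1) → ZMod δ) →+ (∀ k, ZMod (Int.gcd δ (G g d k))) :=
    AddMonoidHom.mk' (fun c k => ZMod.castHom (hn k) _ (c k)) (fun a b => funext fun k => map_add _ _ _)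
  have hπ : Function.Surjective π := fun c => by
    refine ⟨fun k => ((c k).cast : ℤ), funext fun k => ?_⟩
    show ZMod.castHom (hn k) _ (((c k).cast : ℤ) : ZMod δ) = c k
    rw [map_intCast, ZMod.intCast_zmod_cast]
  have hker : π.ker = S δ g d := by
    ext c
    rw [AddMonoidHom.mem_ker, mem_S, funext_iff]
    refine forall_congr' fun k => ?_
    obtain ⟨z, hz⟩ := ZMod.intCast_surjective (c k)
    show ZMod.castHom (hn k) _ (c k) = 0 ↔ _
    rw [← hz, map_intCast, ZMod.intCast_zmod_eq_zero_iff_dvd]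
    constructor
    · rintro ⟨u, rfl⟩
      refine ⟨Int.gcdB δ (G g d k) * u, ?_⟩
      rw [← Int.cast_mul, ← sub_eq_zero, ← Int.cast_sub, ZMod.intCast_zmod_eq_zero_iff_dvd, Int.gcd_eq_gcd_ab]
      exact ⟨-(Int.gcdA δ (G g d k) * u), by ring⟩
    · rintro ⟨t, ht⟩
      rw [← Int.cast_mul, ← sub_eq_zero, ← Int.cast_sub, ZMod.intCast_zmod_eq_zero_iff_dvd] at ht
      have h1 : (Int.gcd δ (G g d k) : ℤ) ∣ t * G g d k - z := (Int.gcd_dvd_left _ _).trans ht
      have h2 := dvd_sub (Dvd.dvd.mul_left (Int.gcd_dvd_right (δ : ℤ) (G g d k)) t) h1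
      rwa [sub_sub_cancel] at h2
  exact ⟨((QuotientAddGroup.congr _ _ E hE).trans
    ((QuotientAddGroup.quotientAddEquivOfEq hker.symm).trans (QuotientAddGroup.quotientKerEquivOfSurjective π hπ))).trans
      (consAddEquiv (fun k => ZMod (Int.gcd δ (G g d k))))⟩

theorem closure_equiv (hδ0 : 0 < δ) (hδ : (δ : ℤ) ∣ 2 * (g - 1)) :
    Nonempty (AddSubgroup.closure (Hset δ g d) ≃+
      (ZMod (δ / Int.gcd δ (Finset.univ.gcd d + 1 - g)) ×
        (Fin s → ZMod (δ / Int.gcd δ (Int.gcd (g - 1) (Finset.univ.gcd d)))))) := by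
  classical
  obtain ⟨E, hE⟩ := exists_equiv δ g d hδ
  haveI : NeZero δ := ⟨hδ0.ne'⟩
  have hord : ∀ k, Nat.card (AddSubgroup.zmultiples ((G g d k : ℤ) : ZMod δ)) = δ / Int.gcd δ (G g d k) := fun k => by
    rw [Nat.card_zmultiples]
    have hg : Int.gcd δ (G g d k) = Nat.gcd δ (G g d k).natAbs := rfl
    rcases Int.natAbs_eq (G g d k) with h | h
    · rw [hg]; conv_lhs => rw [h]
      rw [Int.cast_natCast, ZMod.addOrderOf_coe _ hδ0.ne']
    · rw [hg]; conv_lhs => rw [h]
      rw [Int.cast_neg, addOrderOf_neg, Int.cast_natCast, ZMod.addOrderOf_coe _ hδ0.ne']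
  let e₁ : AddSubgroup.closure (Hset δ g d) ≃+ S δ g d :=
    (AddEquiv.ofBijective (E.toAddMonoidHom.addSubgroupMap (AddSubgroup.closure (Hset δ g d)))
      ⟨fun a b h => Subtype.ext (E.injective (congrArg Subtype.val h)), fun y => by
        obtain ⟨x, hx, hxy⟩ := y.2
        exact ⟨⟨x, hx⟩, Subtype.ext hxy⟩⟩).trans (AddEquiv.addSubgroupCongr hE)
  let e₂ : S δ g d ≃+ (∀ k, AddSubgroup.zmultiples ((G g d k : ℤ) : ZMod δ)) :=
    { toFun := fun c k => ⟨c.1 k, c.2 k (Set.mem_univ k)⟩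
      invFun := fun f => ⟨fun k => (f k).1, fun k _ => (f k).2⟩
      left_inv := fun _ => rfl
      right_inv := fun _ => rfl
      map_add' := fun _ _ => rfl }
  haveI : ∀ k, IsAddCyclic (AddSubgroup.zmultiples ((G g d k : ℤ) : ZMod δ)) := fun k => inferInstance
  let e₃ : (∀ k, AddSubgroup.zmultiples ((G g d k : ℤ) : ZMod δ)) ≃+ (∀ k, ZMod (δ / Int.gcd δ (G g d k))) :=
    AddEquiv.piCongrRight fun k => ((zmodAddCyclicAddEquiv (inferInstance : IsAddCyclic _)).symm).trans
      (ZMod.ringEquivCongr (hord k)).toAddEquiv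
  exact ⟨((e₁.trans e₂).trans e₃).trans (consAddEquiv (fun k => ZMod (δ / Int.gcd δ (G g d k))))⟩

end Groth.Agent.H1Lattice
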